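import Groth.Prelude.Def_W4c3irrattreebunCvg
import Mathlib.FieldTheory.SeparableClosure
import Mathlib.FieldTheory.IntermediateField.Algebraic
import Mathlib.FieldTheory.IsAlgClosed.AlgebraicClosure
import Mathlib.LinearAlgebra.Dimension.Constructions

/-! Covering diagrams and separable algebraic extensions of the base field. -/

set_option autoImplicit false
set_option linter.style.haveILetI false

universe u

open W4c3irrattreebun IntermediateField

namespace Groth.Agent.Cvg19

/-- A finite family spanning a multiplicatively closed space containing `1` spans a field. -/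
theorem exists_field_of_span {F E : Type u} [Field F] [Field E] [Algebra F E] {n : ℕ}
    (b : Fin n → E) (h1 : (1 : E) ∈ Submodule.span F (Set.range b))
    (hmul : ∀ i j, b i * b j ∈ Submodule.span F (Set.range b)) :
    ∃ M : IntermediateField F E, ∀ x, x ∈ M ↔ x ∈ Submodule.span F (Set.range b) := by
  have hm : ∀ x y, x ∈ Submodule.span F (Set.range b) → y ∈ Submodule.span F (Set.range b) →
      x * y ∈ Submodule.span F (Set.range b) := by
    intro x y hx hy
    have h2 : Submodule.span F (Set.range b) * Submodule.span F (Set.range b) ≤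
        Submodule.span F (Set.range b) := by
      rw [Submodule.span_mul_span, Submodule.span_le]
      rintro _ ⟨_, ⟨i, rfl⟩, _, ⟨j, rfl⟩, rfl⟩
      exact hmul i j
    exact h2 (Submodule.mul_mem_mul hx hy)
  let S : Subalgebra F E := (Submodule.span F (Set.range b)).toSubalgebra h1 hm
  have hfg : S.toSubmodule.FG := by
    rw [Submodule.toSubalgebra_toSubmodule]
    exact Submodule.fg_span (Set.finite_range b)
  exact ⟨S.toIntermediateField fun x hx =>
    S.inv_mem_of_algebraic (x := ⟨x, hx⟩) (IsIntegral.of_mem_of_fg S hfg x hx).isAlgebraic,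
    fun x => Iff.rfl⟩

/-- A diagram for `K/k` gives one of at most the same degree for `K'/L`, where `K'` is generated by
`K` and `L`, and `L/k` is algebraic. -/
theorem exists_ascend {k K L K' : Type u} [Field k] [Field K] [Field L] [Field K']
    [Algebra k K] [Algebra k L] [Algebra.IsAlgebraic k L]
    [Algebra L K'] [Algebra K K'] [Algebra k K'] [IsScalarTower k K K'] [IsScalarTower k L K']
    (hgen : ∀ S : Subfield K', (∀ x : K, algebraMap K K' x ∈ S) →
      (∀ x : L, algebraMap L K' x ∈ S) → S = ⊤)
    {e : ℕ} (D : CovDiag.{u} k K e) [Algebra.IsSeparable K D.KC] :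
    ∃ e' ≤ e, ∃ D' : CovDiag.{u} L K' e', Algebra.IsSeparable K' D'.KC := by
  classical
  let Ω := AlgebraicClosure K'
  haveI : Algebra.IsAlgebraic K D.KC := Algebra.IsAlgebraic.of_finite K D.KC
  let σ : D.KC →ₐ[K] Ω := IsAlgClosed.lift
  let β := Module.finBasis K D.KC
  let C : IntermediateField K' Ω := adjoin K' (Set.range fun i => σ (β i))
  have hint : ∀ i, IsIntegral K' (σ (β i)) := fun i =>
    ((Algebra.IsIntegral.isIntegral (R := K) (β i)).map σ).tower_top
  haveI : FiniteDimensional K' C :=
    finiteDimensional_adjoin (S := Set.range fun i => σ (β i)) (by rintro _ ⟨i, rfl⟩; exact hint i)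
  haveI : Algebra.IsSeparable K' C := (isSeparable_adjoin_iff_isSeparable K' Ω).2 (by
    rintro _ ⟨i, rfl⟩
    have h := Algebra.IsSeparable.isSeparable K (β i)
    exact (IsSeparable.map σ σ.injective h).tower_top K')
  have hσ : ∀ x, σ x ∈ C := by
    intro x
    rw [← β.sum_repr x, map_sum]
    refine sum_mem fun i _ => ?_
    rw [map_smul, Algebra.smul_def]
    refine mul_mem ?_ (subset_adjoin _ _ ⟨i, rfl⟩)
    rw [IsScalarTower.algebraMap_apply K K' Ω]
    exact C.algebraMap_mem _
  let σ0 : D.KC →+* C := (σ : D.KC →+* Ω).codRestrict C.toSubalgebra hσ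
  letI : Algebra L C := ((algebraMap K' C).comp (algebraMap L K')).toAlgebra
  haveI : IsScalarTower L K' C := IsScalarTower.of_algebraMap_eq fun x => rfl
  letI : Algebra D.KB C := (σ0.comp (algebraMap D.KB D.KC)).toAlgebra
  let B : IntermediateField D.KB C := adjoin D.KB (Set.range (algebraMap L C))
  letI : Algebra L B := ((algebraMap L C).codRestrict B.toSubalgebra
    fun x => subset_adjoin D.KB _ ⟨x, rfl⟩).toAlgebra
  haveI : IsScalarTower L B C := IsScalarTower.of_algebraMap_eq fun x => rfl
  letI : Algebra k C := ((algebraMap D.KB C).comp (algebraMap k D.KB)).toAlgebra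
  haveI : IsScalarTower k D.KB C := IsScalarTower.of_algebraMap_eq fun x => rfl
  have hσK : ∀ x : K, σ0 (algebraMap K D.KC x) = algebraMap K' C (algebraMap K K' x) := fun x =>
    Subtype.ext ((σ.commutes x).trans (IsScalarTower.algebraMap_apply K K' Ω x))
  have hk : ∀ a : k, algebraMap k C a = algebraMap K' C (algebraMap k K' a) := by
    intro a
    show σ0 (algebraMap D.KB D.KC (algebraMap k D.KB a)) = _
    rw [← IsScalarTower.algebraMap_apply k D.KB D.KC, IsScalarTower.algebraMap_apply k K D.KC,
      hσK, ← IsScalarTower.algebraMap_apply k K K']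
  haveI : IsScalarTower k L C := IsScalarTower.of_algebraMap_eq fun a => by
    rw [hk, IsScalarTower.algebraMap_apply k L K']; rfl
  haveI : Algebra.IsAlgebraic D.KB B := isAlgebraic_adjoin <| by
    rintro _ ⟨x, rfl⟩
    exact ((Algebra.IsIntegral.isIntegral (R := k) x).algebraMap (B := C)).tower_top (A := D.KB)
  have htr : Transcendental B (σ0 D.t) := fun h => by
    have h1 : IsAlgebraic D.KB (σ0 D.t) := h.restrictScalars D.KB
    let g : D.KC →ₐ[D.KB] C := { σ0 with commutes' := fun _ => rfl }
    exact D.transc ((isAlgebraic_algHom_iff g σ0.injective).1 h1)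
  let F : IntermediateField B C := adjoin B {σ0 D.t}
  have hF : ∀ x ∈ adjoin D.KB ({D.t} : Set D.KC), σ0 x ∈ F := by
    intro x hx
    induction hx using IntermediateField.adjoin_induction with
    | mem x hx => rw [Set.mem_singleton_iff] at hx; subst hx; exact subset_adjoin B _ rfl
    | algebraMap x => exact F.algebraMap_mem (algebraMap D.KB B x)
    | add x y _ _ hx hy => rw [map_add]; exact add_mem hx hy
    | inv x _ hx => rw [map_inv₀]; exact inv_mem hx
    | mul x y _ _ hx hy => rw [map_mul]; exact mul_mem hx hy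
  let γ := Module.finBasisOfFinrankEq _ _ D.finrank_eq
  let b : Fin e → C := fun i => σ0 (γ i)
  have hspan : ∀ x : D.KC, σ0 x ∈ Submodule.span F (Set.range b) := by
    intro x
    rw [← γ.sum_repr x, map_sum]
    refine sum_mem fun i _ => ?_
    rw [Algebra.smul_def, map_mul]
    exact Submodule.smul_mem _ (⟨_, hF _ (γ.repr x i).2⟩ : F) (Submodule.subset_span ⟨i, rfl⟩)
  obtain ⟨M, hM⟩ := exists_field_of_span b (by rw [← map_one σ0]; exact hspan 1)
    (fun i j => by rw [← map_mul]; exact hspan _)
  have hK' : ∀ y : K', algebraMap K' C y ∈ M := by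
    have := hgen (M.toSubfield.comap (algebraMap K' C))
      (fun x => by
        show algebraMap K' C (algebraMap K K' x) ∈ M
        rw [← hσK]; exact (hM _).2 (hspan _))
      (fun x => by
        show algebraMap K' C (algebraMap L K' x) ∈ M
        exact M.algebraMap_mem ⟨_, F.algebraMap_mem (algebraMap L B x)⟩)
    intro y
    have hy : y ∈ M.toSubfield.comap (algebraMap K' C) := this ▸ Subfield.mem_top y
    exact hy
  have hC : ∀ z (hz : z ∈ C), (⟨z, hz⟩ : C) ∈ M := by
    intro z hz
    induction hz using IntermediateField.adjoin_induction with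
    | mem x hx => obtain ⟨i, rfl⟩ := hx; exact (hM _).2 (hspan (β i))
    | algebraMap x => exact hK' x
    | add x y hx hy hx' hy' => exact add_mem hx' hy'
    | inv x hx hx' => exact inv_mem hx'
    | mul x y hx hy hx' hy' => exact mul_mem hx' hy'
  have htop : Submodule.span F (Set.range b) = ⊤ := by
    rw [eq_top_iff]
    rintro ⟨z, hz⟩ -
    exact (hM _).1 (hC z hz)
  haveI : Module.Finite F C := ⟨⟨Finset.univ.image b, by simpa using htop⟩⟩
  exact ⟨_, (finrank_le_of_span_eq_top htop).trans_eq (Fintype.card_fin e),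
    { KC := C, KB := B, t := σ0 D.t, transc := htr, finrank_eq := rfl }, inferInstanceAs (Algebra.IsSeparable K' C)⟩

/-- A diagram with top field separable over `K` descends to `k`. -/
theorem exists_descend {k K Ω KB : Type u} [Field k] [Field K] [Field Ω] [Field KB]
    [Algebra k K] [Algebra k Ω] [Algebra K Ω] [IsScalarTower k K Ω]
    [Algebra k KB] [Algebra KB Ω] [IsScalarTower k KB Ω]
    (hfg : (⊤ : IntermediateField k K).FG) [Algebra.IsSeparable K Ω]
    (t : Ω) (htr : Transcendental KB t) [Module.Finite (adjoin KB ({t} : Set Ω)) Ω] {e : ℕ}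
    (he : Module.finrank (adjoin KB ({t} : Set Ω)) Ω = e) :
    ∃ e' ≤ e, ∃ D : CovDiag.{u} k K e', Algebra.IsSeparable K D.KC := by
  classical
  obtain ⟨g, hgfin, hg⟩ := fg_def.1 hfg
  let γ := Module.finBasisOfFinrankEq _ _ he
  let W : Set Ω := insert 1 ((algebraMap K Ω '' g) ∪ Set.range fun p : Fin e × Fin e => γ p.1 * γ p.2)
  have hWfin : W.Finite := ((hgfin.image _).union (Set.finite_range _)).insert _
  haveI : Fintype W := hWfin.fintype
  have hsup : ∀ c ∈ adjoin KB ({t} : Set Ω),
      c ∈ adjoin k (Set.range (algebraMap KB Ω) ∪ {t}) := by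
    intro c hc
    induction hc using IntermediateField.adjoin_induction with
    | mem x hx => exact subset_adjoin k _ (Or.inr hx)
    | algebraMap x => exact subset_adjoin k _ (Or.inl ⟨x, rfl⟩)
    | add x y _ _ hx hy => exact add_mem hx hy
    | inv x _ hx => exact inv_mem hx
    | mul x y _ _ hx hy => exact mul_mem hx hy
  choose T hT hTmem using fun p : W × Fin e =>
    exists_finset_of_mem_adjoin (hsup _ (γ.repr (p.1 : Ω) p.2).2)
  let U : Finset Ω := Finset.univ.biUnion T
  let T' : Finset Ω := U.filter fun x => x ∈ Set.range (algebraMap KB Ω)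
  have hU : ∀ p, (T p : Set Ω) ⊆ (T' : Set Ω) ∪ {t} := by
    intro p x hx
    rcases hT p hx with h | h
    · exact Or.inl (Finset.mem_coe.2 (Finset.mem_filter.2
        ⟨Finset.mem_biUnion.2 ⟨p, Finset.mem_univ _, hx⟩, h⟩))
    · exact Or.inr h
  let gens : Set Ω := ((T' : Set Ω) ∪ {t}) ∪ Set.range γ
  let C : IntermediateField K Ω := adjoin K gens
  haveI : FiniteDimensional K C := by
    have : Finite gens := ((T'.finite_toSet.union (Set.finite_singleton t)).union
      (Set.finite_range γ)).to_subtype
    exact finiteDimensional_adjoin fun x _ => Algebra.IsIntegral.isIntegral x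
  let t0 : C := ⟨t, subset_adjoin K _ (Or.inl (Or.inr rfl))⟩
  let b : Fin e → C := fun i => ⟨γ i, subset_adjoin K _ (Or.inr ⟨i, rfl⟩)⟩
  let S0 : Set C := Subtype.val ⁻¹' (T' : Set Ω)
  let B : IntermediateField k C := adjoin k S0
  have hB : ∀ x ∈ B, (x : Ω) ∈ (IsScalarTower.toAlgHom k KB Ω).fieldRange := by
    intro x hx
    induction hx using IntermediateField.adjoin_induction with
    | mem x hx => exact (Finset.mem_filter.1 (Finset.mem_coe.1 hx)).2
    | algebraMap x => exact ⟨algebraMap k KB x, (IsScalarTower.algebraMap_apply k KB Ω x).symm⟩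
    | add x y _ _ hx hy => exact add_mem hx hy
    | inv x _ hx => exact inv_mem hx
    | mul x y _ _ hx hy => exact mul_mem hx hy
  have htr0 : Transcendental B t0 := by
    intro h
    choose f hf using fun x : B => hB x x.2
    let φ : B →+* KB :=
      { toFun := f
        map_one' := (algebraMap KB Ω).injective (by rw [map_one]; exact hf 1)
        map_mul' := fun x y => (algebraMap KB Ω).injective (by
          rw [map_mul]; exact (hf _).trans (congrArg₂ (· * ·) (hf x).symm (hf y).symm))
        map_zero' := (algebraMap KB Ω).injective (by rw [map_zero]; exact hf 0)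
        map_add' := fun x y => (algebraMap KB Ω).injective (by
          rw [map_add]; exact (hf _).trans (congrArg₂ (· + ·) (hf x).symm (hf y).symm)) }
    obtain ⟨p, hp, hp'⟩ := h
    refine htr ⟨p.map φ, (Polynomial.map_ne_zero_iff φ.injective).2 hp, ?_⟩
    have h3 := congrArg (fun z : C => (z : Ω)) hp'
    rw [Polynomial.aeval_def, Polynomial.eval₂_map]
    have h4 : (algebraMap KB Ω).comp φ = (algebraMap C Ω).comp (algebraMap B C) :=
      RingHom.ext fun x => hf x
    rw [h4, show t = algebraMap C Ω t0 from rfl, ← Polynomial.hom_eval₂]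
    exact h3
  let F : IntermediateField B C := adjoin B {t0}
  have hF : ∀ x : C, (x : Ω) ∈ adjoin k ((T' : Set Ω) ∪ {t}) → x ∈ F := by
    intro x hx
    let ι : C →ₐ[k] Ω := C.val.restrictScalars k
    have him : ι '' (S0 ∪ {t0}) = (T' : Set Ω) ∪ {t} := by
      rw [Set.image_union, Set.image_singleton]
      refine congrArg₂ (· ∪ ·) (Set.image_preimage_eq_of_subset ?_) rfl
      exact fun y hy => ⟨⟨y, subset_adjoin K _ (Or.inl (Or.inl hy))⟩, rfl⟩
    rw [← him, ← adjoin_map] at hx
    obtain ⟨y, hy, hyx⟩ := hx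
    obtain rfl : y = x := Subtype.ext hyx
    have hle : adjoin k (S0 ∪ {t0}) ≤ F.restrictScalars k := by
      rw [adjoin_le_iff]
      rintro z (hz | hz)
      · exact F.algebraMap_mem (⟨z, subset_adjoin k _ hz⟩ : B)
      · exact subset_adjoin B _ hz
    exact hle hy
  have hspan : ∀ z : C, (z : Ω) ∈ W → z ∈ Submodule.span F (Set.range b) := by
    intro z hz
    have hc : ∀ l, ((γ.repr (z : Ω) l : adjoin KB ({t} : Set Ω)) : Ω) ∈
        adjoin k ((T' : Set Ω) ∪ {t}) := fun l =>
      adjoin.mono k _ _ (hU (⟨z, hz⟩, l)) (hTmem (⟨z, hz⟩, l))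
    have hcC : ∀ l, ((γ.repr (z : Ω) l : adjoin KB ({t} : Set Ω)) : Ω) ∈ C := by
      intro l
      have hle : adjoin k ((T' : Set Ω) ∪ {t}) ≤ C.restrictScalars k :=
        adjoin_le_iff.2 fun y hy => subset_adjoin K _ (Or.inl hy)
      exact hle (hc l)
    have : z = ∑ l, (⟨⟨_, hcC l⟩, hF _ (hc l)⟩ : F) • b l := Subtype.ext <| by
      rw [IntermediateField.coe_sum]
      exact (γ.sum_repr (z : Ω)).symm
    rw [this]
    exact sum_mem fun l _ => Submodule.smul_mem _ _ (Submodule.subset_span ⟨l, rfl⟩)
  obtain ⟨M, hM⟩ := exists_field_of_span b (hspan 1 (Set.mem_insert _ _))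
    (fun i j => hspan _ (Or.inr (Or.inr ⟨(i, j), rfl⟩)))
  have hMk : ∀ a : k, algebraMap k C a ∈ M := fun a =>
    M.algebraMap_mem ⟨_, F.algebraMap_mem (algebraMap k B a)⟩
  have hMK : ∀ x : K, algebraMap K C x ∈ M := by
    intro x
    have hx : x ∈ adjoin k g := hg ▸ mem_top
    induction hx using IntermediateField.adjoin_induction with
    | mem x hx => exact (hM _).2 (hspan _ (Or.inr (Or.inl ⟨x, hx, rfl⟩)))
    | algebraMap x => rw [← IsScalarTower.algebraMap_apply k K C]; exact hMk x
    | add x y _ _ hx hy => rw [map_add]; exact add_mem hx hy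
    | inv x _ hx => rw [map_inv₀]; exact inv_mem hx
    | mul x y _ _ hx hy => rw [map_mul]; exact mul_mem hx hy
  have hC : ∀ z (hz : z ∈ C), (⟨z, hz⟩ : C) ∈ M := by
    intro z hz
    induction hz using IntermediateField.adjoin_induction with
    | mem x hx =>
      rcases hx with (hx | hx) | ⟨i, rfl⟩
      · exact M.algebraMap_mem ⟨_, F.algebraMap_mem (⟨⟨x, _⟩, subset_adjoin k _ hx⟩ : B)⟩
      · rw [Set.mem_singleton_iff] at hx
        subst hx
        exact M.algebraMap_mem ⟨_, subset_adjoin B _ (Set.mem_singleton t0)⟩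
      · exact (hM _).2 (Submodule.subset_span ⟨i, rfl⟩)
    | algebraMap x => exact hMK x
    | add x y hx hy hx' hy' => exact add_mem hx' hy'
    | inv x hx hx' => exact inv_mem hx'
    | mul x y hx hy hx' hy' => exact mul_mem hx' hy'
  have htop : Submodule.span F (Set.range b) = ⊤ := by
    rw [eq_top_iff]
    rintro ⟨z, hz⟩ -
    exact (hM _).1 (hC z hz)
  haveI : Module.Finite F C := ⟨⟨Finset.univ.image b, by simpa using htop⟩⟩
  exact ⟨_, (finrank_le_of_span_eq_top htop).trans_eq (Fintype.card_fin e),
    { KC := C, KB := B, t := t0, transc := htr0, finrank_eq := rfl },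
    inferInstanceAs (Algebra.IsSeparable K C)⟩

end Groth.Agent.Cvg19
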